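import Groth.Agent.H29Nef.GGInduction
import Groth.Agent.H22Alg.GGDescent
import Groth.Agent.H28Int.FieldExt
import Groth.Agent.H28Int.Push
import Groth.Agent.H8Props.FieldDimScheme
import Groth.Agent.H8Props.ProjOpenAmple
import Groth.Agent.H21Split.TypeR.Closed
import Groth.Agent.H17.Seshadri.Degree
import Groth.Agent.H17.AssPts
import Groth.Agent.H25AbCube.GeomTate

/-!
# Nef invertible modules on one-dimensional proper schemes with `H¹(O) = 0` over any field
-/

set_option autoImplicit false
set_option linter.style.haveILetI false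
set_option linter.unusedSectionVars false

universe u

open CategoryTheory CategoryTheory.Limits AlgebraicGeometry TopologicalSpace Opposite
open Groth.Agent.H29RR Groth.Agent.H06Mod Groth.Agent.H29CurveDual.Subcurve

namespace Groth.Agent.H29Nef

attribute [local instance 10000] H10Coh.hasSheafifyAb H10Coh.hasWeakSheafifyAb H10Coh.hasExtAb H10Coh.enoughInjAb

variable {k : Type u} [Field k] {X : Scheme.{u}} [X.Over (Spec (CommRingCat.of k))]
  [IsProper (X ↘ Spec (CommRingCat.of k))]

include k in
theorem subsingleton_h1_quotMod (hdim : topologicalKrullDim X ≤ 1)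
    (hO : Subsingleton (Coh.HH X (Coh.structureModule X) 1)) (J : X.IdealSheafData) :
    Subsingleton (Coh.HH X (ClSub.quotMod J) 1) := by
  haveI := isNoetherian_of_proper (k := k) (X := X)
  haveI := H10Coh.epi_toSubscheme J
  exact (H29CurveVan.surjective_one_of_epi (k := k) hdim (ClSub.toSubscheme J)).subsingleton

/-- A nef invertible module has a section generating at the generic point of every integral curve. -/
theorem exists_section_ne_zero (hdim : topologicalKrullDim X ≤ 1)
    (hO : Subsingleton (Coh.HH X (Coh.structureModule X) 1)) {L : X.Modules} (hL : PicF.IsInvertible L)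
    (J : X.IdealSheafData) [IsIntegral J.subscheme] (hJ : topologicalKrullDim J.subscheme = 1)
    (hdeg : 0 ≤ @Curv2.deg k _ J.subscheme ⟨J.subschemeι ≫ (X ↘ (Spec (CommRingCat.of k)))⟩
        ((Scheme.Modules.pullback J.subschemeι).obj L) 1) :
    ∃ g : Γ((Scheme.Modules.pullback J.subschemeι).obj L, ⊤),
      genericPoint J.subscheme ∈ H11Ample.gen ((Scheme.Modules.pullback J.subschemeι).obj L) g := by
  letI : J.subscheme.Over (Spec (CommRingCat.of k)) := ⟨J.subschemeι ≫ (X ↘ (Spec (CommRingCat.of k)))⟩
  haveI : IsProper (J.subscheme ↘ Spec (CommRingCat.of k)) :=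
    inferInstanceAs (IsProper (J.subschemeι ≫ (X ↘ Spec (CommRingCat.of k))))
  haveI := isNoetherian_of_proper (k := k) (X := X)
  let M := (Scheme.Modules.pullback J.subschemeι).obj L
  have hM : PicF.IsInvertible M := H11Ample.isInvertible_pullback J.subschemeι hL
  haveI : (Coh.structureModule J.subscheme).IsQuasicoherent := (H10Coh.isCoh_structureModule' J.subscheme).1
  have hC1 : Module.finrank k (Coh.HH J.subscheme (Coh.structureModule J.subscheme) 1) = 0 := by
    rw [← H28Int.Push.finrank_HH_push k J.subschemeι rfl (Coh.structureModule J.subscheme) 1]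
    haveI : Subsingleton (Coh.HH X ((Coh.push J.subschemeι).obj (Coh.structureModule J.subscheme)) 1) :=
      subsingleton_h1_quotMod (k := k) hdim hO J
    exact Module.finrank_zero_of_subsingleton
  have hpos : 0 < Module.finrank k (Coh.HH J.subscheme (Coh.structureModule J.subscheme) 0) := by
    haveI := H10Coh.finite_HH_proper k J.subscheme _ (H10Coh.isCoh_structureModule' J.subscheme) 0
    haveI : Nontrivial Γ(J.subscheme, ⊤) := by
      haveI : Nonempty (⊤ : J.subscheme.Opens) := ⟨⟨genericPoint J.subscheme, trivial⟩⟩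
      exact J.subscheme.component_nontrivial ⊤
    haveI : Nontrivial (Coh.HH J.subscheme (Coh.structureModule J.subscheme) 0) :=
      haveI : Nontrivial Γ(Coh.structureModule J.subscheme, ⊤) := ‹Nontrivial Γ(J.subscheme, ⊤)›
      (sec (Coh.structureModule J.subscheme)).toEquiv.nontrivial
    exact Module.finrank_pos
  rw [deg_def, euler_eq_sub (k := k) hJ.le M, euler_eq_sub (k := k) hJ.le (Coh.structureModule J.subscheme), hC1]
    at hdeg
  haveI := isNoetherian_of_proper (k := k) (X := J.subscheme)
  haveI : Module.Finite k (Coh.HH J.subscheme M 0) :=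
    H10Coh.finite_HH_proper k J.subscheme M (H11Ample.isCoh_of_isInvertible hM) 0
  have hM0 : 0 < Module.finrank k (Coh.HH J.subscheme M 0) := by omega
  obtain ⟨v, hv⟩ := (Module.finrank_pos_iff_exists_ne_zero).1 hM0
  refine ⟨sec M v, H25Euler.mem_gen_of_notMem_support_coker hM _ ?_⟩
  exact (mono_homOfGlobal hM fun h => hv ((sec M).injective (h.trans (map_zero _).symm))).2

variable (k) in
/-- Base change to an algebraic closure keeps the sections on the curves. -/
theorem exists_section_bc {K : Type u} [Field K] [Algebra k K] [Algebra.IsAlgebraic k K] {X' : Scheme.{u}}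
    {q : X' ⟶ X} {f' : X' ⟶ Spec (CommRingCat.of K)}
    (hsq : IsPullback q f' (X ↘ Spec (CommRingCat.of k)) (Spec.map (CommRingCat.ofHom (algebraMap k K))))
    [IsNoetherian X'] (hdim : topologicalKrullDim X ≤ 1)
    (hO : Subsingleton (Coh.HH X (Coh.structureModule X) 1)) {L : X.Modules} (hL : PicF.IsInvertible L)
    (hnef : ∀ J : X.IdealSheafData, IsIntegral J.subscheme → topologicalKrullDim J.subscheme = 1 →
      0 ≤ @Curv2.deg k _ J.subscheme ⟨J.subschemeι ≫ (X ↘ (Spec (CommRingCat.of k)))⟩
        ((Scheme.Modules.pullback J.subschemeι).obj L) 1)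
    (x : X') (hx : ¬ IsClosed ({x} : Set X')) :
    ∃ w : Γ(res ((Scheme.Modules.pullback q).obj L) (⟨closure {x}, isClosed_closure⟩ : Closeds X'), ⊤), w ≠ 0 := by
  haveI : IsIntegralHom (Spec.map (CommRingCat.ofHom (algebraMap k K))) :=
    IsIntegralHom.SpecMap_iff.2 (algebraMap_isIntegral_iff.2 inferInstance)
  haveI : IsIntegralHom q := MorphismProperty.of_isPullback (P := @IsIntegralHom) hsq.flip inferInstance
  have hy : ¬ IsClosed ({q x} : Set X) := fun hc => by
    refine hx (closure_subset_iff_isClosed.1 fun z hz => ?_)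
    have h1 : x ⤳ z := specializes_iff_mem_closure.2 hz
    have h2 : q z = q x := Set.mem_singleton_iff.1 ((h1.map q.continuous).mem_closed hc rfl)
    exact (H17.AssPts.eq_of_specializes_of_map_eq q h1 h2.symm).symm
  let W : Closeds X := ⟨closure {q x}, isClosed_closure⟩
  let W' : Closeds X' := ⟨closure {x}, isClosed_closure⟩
  let J := idl W
  let J' := idl W'
  haveI : IsIntegral J.subscheme := H22Alg.isIntegral_vanishingIdeal_closure (q x)
  haveI : IsIntegral J'.subscheme := H22Alg.isIntegral_vanishingIdeal_closure x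
  have hJ : topologicalKrullDim J.subscheme = 1 := dim_subscheme hdim
    (closure_mono (Set.singleton_subset_iff.2 ⟨subset_closure rfl, hy⟩)) ⟨q x, subset_closure rfl⟩
  obtain ⟨g, hg⟩ := exists_section_ne_zero hdim hO hL J hJ (hnef J inferInstance hJ)
  have hr : Set.range J.subschemeι = (W : Set X) := H17.range_vanishingIdeal_subschemeι _
  have hr' : Set.range J'.subschemeι = (W' : Set X') := H17.range_vanishingIdeal_subschemeι _
  obtain ⟨ρ, hρ⟩ := H21Split.TypeR.exists_lift_reduced J.subschemeι (J'.subschemeι ≫ q) (by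
    rintro _ ⟨z, rfl⟩
    refine hr.ge ?_
    have hz : J'.subschemeι z ∈ closure ({x} : Set X') := hr'.le ⟨z, rfl⟩
    exact (specializes_iff_mem_closure.1 ((specializes_iff_mem_closure.2 hz).map q.continuous) :))
  obtain ⟨t, ht⟩ : x ∈ Set.range J'.subschemeι := hr'.ge (subset_closure rfl)
  have hgen : ρ t ⤳ genericPoint J.subscheme := by
    rw [← J.subschemeι.isEmbedding.isInducing.specializes_iff, ← Scheme.Hom.comp_apply, hρ,
      Scheme.Hom.comp_apply, ht, specializes_iff_mem_closure]
    exact hr.le ⟨_, rfl⟩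
  have hM : PicF.IsInvertible ((Scheme.Modules.pullback J.subschemeι).obj L) :=
    H11Ample.isInvertible_pullback J.subschemeι hL
  have hmem : t ∈ H11Ample.gen ((Scheme.Modules.pullback ρ).obj ((Scheme.Modules.pullback J.subschemeι).obj L))
      (H11Ample.pullTop ρ g) := by
    rw [H8Props.ProjOpenAmple.gen_pullTop ρ (fun y => H11Ample.exists_gen hM (ρ y)) g]
    exact hgen.mem_open (H11Ample.gen _ g).isOpen hg
  haveI : Nontrivial Γ((Scheme.Modules.pullback ρ).obj ((Scheme.Modules.pullback J.subschemeι).obj L), ⊤) :=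
    nontrivial_of_ne _ 0 (H17.Seshadri.ne_zero_of_mem_gen (H11Ample.isInvertible_pullback ρ hM) hmem)
  let e : (Scheme.Modules.pullback ρ).obj ((Scheme.Modules.pullback J.subschemeι).obj L) ≅
      CohB1.tensorMod (Coh.structureModule J'.subscheme)
        ((Scheme.Modules.pullback J'.subschemeι).obj ((Scheme.Modules.pullback q).obj L)) :=
    (Scheme.Modules.pullbackComp ρ J.subschemeι).app L ≪≫
      (Scheme.Modules.pullbackCongr hρ).app L ≪≫
        ((Scheme.Modules.pullbackComp J'.subschemeι q).app L).symm ≪≫ (H10Coh.Tw.leftUnitIso _).symm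
  obtain ⟨e'⟩ := H10Coh.Tw.nonempty_push_tensor_iso J'.subschemeι (Coh.structureModule J'.subscheme)
    (H11Ample.isInvertible_pullback q hL)
  obtain ⟨u, hu⟩ := exists_ne (0 : Γ((Scheme.Modules.pullback ρ).obj
    ((Scheme.Modules.pullback J.subschemeι).obj L), ⊤))
  let w₀ : Γ((Coh.push J'.subschemeι).obj (CohB1.tensorMod (Coh.structureModule J'.subscheme)
      ((Scheme.Modules.pullback J'.subschemeι).obj ((Scheme.Modules.pullback q).obj L))), ⊤) := e.hom.app ⊤ u
  refine ⟨e'.inv.app ⊤ w₀, fun h0 => hu ?_⟩
  have h1 : w₀ = 0 := H10Coh.injective_app_of_mono' e'.inv ⊤ (h0.trans (map_zero _).symm)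
  exact H10Coh.injective_app_of_mono' e.hom ⊤ (h1.trans (map_zero _).symm)

variable (k) in
/-- A nef invertible module on a proper scheme of dimension at most one with `H¹(O) = 0` is globally generated
and has no first cohomology. -/
theorem globallyGenerated_and_h1 (hdim : topologicalKrullDim X ≤ 1)
    (hO : Subsingleton (Coh.HH X (Coh.structureModule X) 1)) {L : X.Modules} (hL : PicF.IsInvertible L)
    (hnef : ∀ J : X.IdealSheafData, IsIntegral J.subscheme → topologicalKrullDim J.subscheme = 1 →
      0 ≤ @Curv2.deg k _ J.subscheme ⟨J.subschemeι ≫ (X ↘ (Spec (CommRingCat.of k)))⟩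
        ((Scheme.Modules.pullback J.subschemeι).obj L) 1) :
    Curv2.IsGloballyGenerated L ∧ Subsingleton (Coh.HH X L 1) := by
  let K := AlgebraicClosure k
  let X' := pullback (X ↘ Spec (CommRingCat.of k)) (Spec.map (CommRingCat.ofHom (algebraMap k K)))
  letI : X'.Over (Spec (CommRingCat.of K)) := ⟨pullback.snd _ _⟩
  let q : X' ⟶ X := pullback.fst _ _
  have hsq : IsPullback q (X' ↘ Spec (CommRingCat.of K)) (X ↘ Spec (CommRingCat.of k))
      (Spec.map (CommRingCat.ofHom (algebraMap k K))) := IsPullback.of_hasPullback _ _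
  haveI : IsProper (X' ↘ Spec (CommRingCat.of K)) := inferInstanceAs (IsProper (pullback.snd _ _))
  haveI := isNoetherian_of_proper (k := k) (X := X)
  haveI := isNoetherian_of_proper (k := K) (X := X')
  have hdim' : topologicalKrullDim X' ≤ 1 := (H8Props.FieldDim.dim_baseChange _ q _ hsq).le.trans hdim
  have hO' : Subsingleton (Coh.HH X' (Coh.structureModule X') 1) := by
    haveI := hO
    haveI := H10Coh.finite_HH_proper K X' _ (H10Coh.isCoh_structureModule' X') 1
    refine Module.finrank_zero_iff.1 (?_ : Module.finrank K _ = 0)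
    rw [(hhIso (k := K) (H16Derived.KFlat.Stalk.structurePullbackIso q).symm 1).finrank_eq,
      H28Int.FieldExt.finrank_HH_bc K hsq (H10Coh.isCoh_structureModule' X)]
    exact Module.finrank_zero_of_subsingleton
  let L' := (Scheme.Modules.pullback q).obj L
  have hL' : PicF.IsInvertible L' := H11Ample.isInvertible_pullback q hL
  have hbot := isGloballyGenerated_quot_of_sections K hdim' hO' hL'
    (exists_section_bc k hsq hdim hO hL hnef) ⊥
  have hgg : Curv2.IsGloballyGenerated L' := by
    haveI : IsIso (ClSub.toSubscheme (⊥ : X'.IdealSheafData)) := by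
      haveI := H10Coh.epi_toSubscheme (⊥ : X'.IdealSheafData)
      haveI : Mono (ClSub.toSubscheme (⊥ : X'.IdealSheafData)) :=
        Preadditive.mono_of_kernel_zero ((IsZero.eq_of_src (H25Par.isZero_of_stalks _ fun y =>
          subsingleton_of_forall_eq 0 fun v => by
            obtain ⟨O, hy, v, rfl⟩ := (ClSub.idealMod (⊥ : X'.IdealSheafData)).presheaf.exists_germ_eq v
            obtain ⟨V, hV, hyV, hle⟩ := exists_isAffineOpen_mem_and_subset (U := O) (x := y) hy
            rw [← (ClSub.idealMod (⊥ : X'.IdealSheafData)).presheaf.germ_res_apply (homOfLE hle) y hyV]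
            refine (congrArg _ ?_).trans (map_zero _)
            refine H29Blow.idealSect_injective ⊥ V ((?_ : _ = (0 : Γ(X', V))).trans (map_zero _).symm)
            have h := (H29Blow.mem_ideal_iff_exists_idealSect (⊥ : X'.IdealSheafData) hV _).2
              ⟨(ClSub.idealMod (⊥ : X'.IdealSheafData)).presheaf.map (homOfLE hle).op v, rfl⟩
            rw [Scheme.IdealSheafData.ideal_bot] at h
            exact (Ideal.mem_bot.1 h :)) _ _))
      exact isIso_of_mono_of_epi _
    exact H11Ample.isGloballyGenerated_of_iso (PicGrp.tensorModIso (asIso (ClSub.toSubscheme (⊥ : X'.IdealSheafData))).symm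
      (Iso.refl L') ≪≫ H10Coh.Tw.leftUnitIso L') hbot
  haveI := hO
  haveI : L.IsQuasicoherent := (H11Ample.isCoh_of_isInvertible hL).1
  refine ⟨H22Alg.GGDescent.isGloballyGenerated_descend hsq L (H11Ample.isCoh_of_isInvertible hL).1 hgg, ?_⟩
  haveI := H29CurveVan.subsingleton_h1_of_gg K hdim' hO' (H11Ample.isCoh_of_isInvertible hL') hgg
  haveI := H10Coh.finite_HH_proper k X L (H11Ample.isCoh_of_isInvertible hL) 1
  refine Module.finrank_zero_iff.1 (?_ : Module.finrank k _ = 0)
  rw [← H28Int.FieldExt.finrank_HH_bc K hsq (H11Ample.isCoh_of_isInvertible hL) 1]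
  exact Module.finrank_zero_of_subsingleton

end Groth.Agent.H29Nef
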