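import Groth.Agent.H29Nef.Killed
import Groth.Agent.H17.AnnSheaf
import Groth.Agent.H25Chow.Image
import Groth.Agent.H22Alg.RedIntegral
import Groth.Agent.H29CurveDual.Subcurve.Generation
import Groth.Agent.H10Inj.GGOn
import Groth.Agent.H29RR.Consts

/-!
# Global generation of nef invertible modules on one-dimensional schemes with `H¹(O) = 0`

Noetherian induction on the closed subscheme: on a subscheme `V(I)` the restriction to a component `C` with
reduced ideal `J` is surjective on sections because the kernel `(J/I) ⊗ L` is killed by a strictly larger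
ideal, hence is a quotient of copies of the acyclic module `J/I`.
-/

set_option autoImplicit false
set_option linter.style.haveILetI false
set_option linter.unusedSectionVars false

universe u

open CategoryTheory CategoryTheory.Limits AlgebraicGeometry TopologicalSpace Opposite
open Groth.Agent.H29RR Groth.Agent.H06Mod Groth.Agent.H29CurveDual.Subcurve

namespace Groth.Agent.H29Nef

attribute [local instance 10000] H10Coh.hasSheafifyAb H10Coh.hasWeakSheafifyAb H10Coh.hasExtAb H10Coh.enoughInjAb

variable {X : Scheme.{u}}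

theorem finite_of_forall_isClosed [IsNoetherian X] {S : Set X} (hS : IsClosed S)
    (h : ∀ z ∈ S, IsClosed ({z} : Set X)) : S.Finite := by
  obtain ⟨T, hT, hTc, hTi, rfl⟩ := NoetherianSpace.exists_finite_set_isClosed_irreducible hS
  refine hT.sUnion fun t ht => ?_
  obtain ⟨g, hg⟩ := QuasiSober.sober (hTi t ht) (hTc t ht)
  have hgt : g ∈ t := hg ▸ subset_closure rfl
  have h1 : closure ({g} : Set X) = {g} := (h g ⟨t, ht, hgt⟩).closure_eq
  rw [show t = closure ({g} : Set X) from hg.symm, h1]
  exact Set.finite_singleton g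

/-- At a point of an affine open, the ideal of the closure is its prime. -/
theorem ideal_vanishingIdeal_closure {U : X.Opens} (hU : IsAffineOpen U) {x : X} (hx : x ∈ U) :
    (Scheme.IdealSheafData.vanishingIdeal (⟨closure {x}, isClosed_closure⟩ : Closeds X)).ideal ⟨U, hU⟩ =
      (hU.primeIdealOf ⟨x, hx⟩).asIdeal := by
  rw [Scheme.IdealSheafData.vanishingIdeal_ideal]
  show PrimeSpectrum.vanishingIdeal (hU.fromSpec ⁻¹' closure {x}) = _
  have h1 : hU.fromSpec ⁻¹' {x} = {hU.primeIdealOf ⟨x, hx⟩} := by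
    ext z
    refine ⟨fun hz => hU.fromSpec.isOpenEmbedding.injective ?_, ?_⟩
    · exact hz.trans (hU.fromSpec_primeIdealOf ⟨x, hx⟩).symm
    · rintro rfl; exact hU.fromSpec_primeIdealOf ⟨x, hx⟩
  erw [hU.fromSpec.isOpenEmbedding.isOpenMap.preimage_closure_eq_closure_preimage hU.fromSpec.continuous, h1]
  exact ((congrArg PrimeSpectrum.vanishingIdeal (PrimeSpectrum.closure_singleton (hU.primeIdealOf ⟨x, hx⟩))).trans
    (PrimeSpectrum.vanishingIdeal_zeroLocus_eq_radical _)).trans (hU.primeIdealOf ⟨x, hx⟩).isPrime.radical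

/-- A generic point gives a minimal prime over any ideal vanishing at it. -/
theorem mem_minimalPrimes_of_generic {U : X.Opens} (hU : IsAffineOpen U) {x : X} (hx : x ∈ U)
    (hgen : x ∈ genericPoints X) {I₀ : Ideal Γ(X, U)} (hI : I₀ ≤ (hU.primeIdealOf ⟨x, hx⟩).asIdeal) :
    (hU.primeIdealOf ⟨x, hx⟩).asIdeal ∈ I₀.minimalPrimes := by
  refine ⟨⟨(hU.primeIdealOf ⟨x, hx⟩).isPrime, hI⟩, fun q hq hle => ?_⟩
  have h1 : (⟨q, hq.1⟩ : PrimeSpectrum Γ(X, U)) ⤳ hU.primeIdealOf ⟨x, hx⟩ :=
    (PrimeSpectrum.le_iff_specializes _ _).1 hle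
  have h2 := h1.map hU.fromSpec.continuous
  rw [hU.fromSpec_primeIdealOf] at h2
  have h3 := H8Props.mem_genericPoints_iff.1 hgen _ h2
  have h4 : (⟨q, hq.1⟩ : PrimeSpectrum Γ(X, U)) = hU.primeIdealOf ⟨x, hx⟩ :=
    hU.fromSpec.isOpenEmbedding.injective (h3.trans (hU.fromSpec_primeIdealOf ⟨x, hx⟩).symm)
  exact (congrArg PrimeSpectrum.asIdeal h4).ge

theorem exists_mul_mem_of_minimalPrime {R : Type*} [CommRing R] [IsNoetherianRing R] {I₀ p : Ideal R}
    (hp : p ∈ I₀.minimalPrimes) : ∃ a, a ∉ I₀ ∧ ∀ r ∈ p, a * r ∈ I₀ := by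
  have h := Module.associatedPrimes.minimalPrimes_annihilator_subset_associatedPrimes R (R ⧸ I₀)
    (show p ∈ (Module.annihilator R (R ⧸ I₀)).minimalPrimes by rwa [Ideal.annihilator_quotient])
  obtain ⟨hpp, v, hv⟩ := isAssociatedPrime_iff.1 h
  obtain ⟨a, rfl⟩ := Ideal.Quotient.mk_surjective v
  refine ⟨a, fun ha => hpp.ne_top ?_, fun r hr => ?_⟩
  · rw [hv, Ideal.Quotient.eq_zero_iff_mem.2 ha]
    exact eq_top_iff.2 fun r _ => Submodule.mem_colon_singleton.2 (by simp)
  · rw [hv] at hr
    have h1 := Submodule.mem_bot _ |>.1 (Submodule.mem_colon_singleton.1 hr)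
    rw [Algebra.smul_def, Ideal.Quotient.algebraMap_eq, ← map_mul, Ideal.Quotient.eq_zero_iff_mem] at h1
    rwa [mul_comm]

variable {k : Type u} [Field k] [X.Over (Spec (CommRingCat.of k))] [IsProper (X ↘ Spec (CommRingCat.of k))]

theorem subsingleton_one_of_surjective {S : ShortComplex X.Modules} (hS : S.ShortExact)
    (h0 : Function.Surjective (Canon.HHlin k S.g 0)) (h1 : Subsingleton (Coh.HH X S.X₂ 1)) :
    Subsingleton (Coh.HH X S.X₁ 1) := by
  refine subsingleton_of_forall_eq 0 fun y => ?_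
  obtain ⟨z, hz⟩ := Abelian.Ext.covariant_sequence_exact₁ _ (H10Coh.shortExact_sh hS) y
    (h1.elim _ _) (n₀ := 0) rfl
  obtain ⟨z', rfl⟩ := h0 z
  rw [← hz]
  show ((z'.comp (Abelian.Ext.mk₀ _) (add_zero 0))).comp _ _ = 0
  exact Abelian.Ext.comp_assoc_of_second_deg_zero .. |>.trans
    ((congrArg (fun t => Abelian.Ext.comp z' t (zero_add 1)) (H10Coh.shortExact_sh hS).comp_extClass).trans
      (Abelian.Ext.comp_zero _ _ _ _ _))

variable (k) in
/-- The constants surject onto the functions of an integral closed subscheme. -/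
theorem surjective_h0_toSubscheme [IsAlgClosed k] (J : X.IdealSheafData) [IsIntegral J.subscheme] :
    Function.Surjective (Canon.HHlin k (ClSub.toSubscheme J) 0) := by
  letI : J.subscheme.Over (Spec (CommRingCat.of k)) := ⟨J.subschemeι ≫ (X ↘ (Spec (CommRingCat.of k)))⟩
  let g := J.subschemeι ≫ (X ↘ (Spec (CommRingCat.of k)))
  haveI : IsProper g := inferInstanceAs (IsProper (J.subschemeι ≫ (X ↘ Spec (CommRingCat.of k))))
  letI := H22Alg.GlobalFunctions.algΓ g
  haveI := H22Alg.GlobalFunctions.finite_algΓ g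
  letI := (H22Alg.GlobalFunctions.isField_of_universallyClosed g).toField
  haveI : Algebra.IsIntegral k Γ(J.subscheme, ⊤) := Algebra.IsIntegral.of_finite k Γ(J.subscheme, ⊤)
  have hb := IsAlgClosed.algebraMap_bijective_of_isIntegral (k := k) (K := Γ(J.subscheme, ⊤))
  intro z
  obtain ⟨c, hc⟩ := hb.2 (show Γ(J.subscheme, ⊤) from sec (ClSub.quotMod J) z)
  refine ⟨(sec (Coh.structureModule X)).symm
    (show Γ(X, ⊤) from (X ↘ Spec (CommRingCat.of k)).appTop ((Scheme.ΓSpecIso (CommRingCat.of k)).inv c)),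
    (sec (ClSub.quotMod J)).injective ?_⟩
  rw [sec_natural, AddEquiv.apply_symm_apply]
  exact hc

include k in
variable (k) in
/-- Spanning at the nonclosed points suffices. -/
theorem isGloballyGenerated_of_spansAt_nonclosed (hdim : topologicalKrullDim X ≤ 1)
    (hO : Subsingleton (Coh.HH X (Coh.structureModule X) 1)) {M : X.Modules} (hM : Coh.IsCoh M)
    (h : ∀ x : X, ¬ IsClosed ({x} : Set X) → SpansAt M x) : Curv2.IsGloballyGenerated M := by
  haveI := isNoetherian_of_proper (k := k) (X := X)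
  haveI := H10Coh.finite_HH_proper k X M hM 0
  let n := Module.finrank k (Coh.HH X M 0)
  let β := Module.finBasis k (Coh.HH X M 0)
  let φ : FlatMod.freeMod X n ⟶ M := Sigma.desc fun i => H11Tilde.homOfGlobal M (sec M (β i))
  have hFree : Coh.IsCoh (FlatMod.freeMod X n) :=
    H16Derived.KFlat.Stalk.isCoh_of_isFinLocFree (H22Alg.KModel.finLocFree_free n)
  have hC : Coh.IsCoh (cokernel φ) := H10Coh.isCoh_cokernel φ hFree.1 hM
  let π := cokernel.π φ
  let a : FlatMod.freeMod X n ⟶ kernel π := kernel.lift π φ (cokernel.condition φ)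
  haveI : Epi a := (ShortComplex.exact_iff_epi_kernel_lift _).1 (ShortComplex.exact_cokernel φ)
  have hS : (ShortComplex.mk (kernel.ι π) π (kernel.condition π)).ShortExact :=
    { exact := ShortComplex.exact_kernel _ }
  have hsurj : Function.Surjective (Canon.HHlin k (kernel.ι π) 0) := by
    rw [← LinearMap.range_eq_top, eq_top_iff, ← β.span_eq, Submodule.span_le]
    rintro _ ⟨i, rfl⟩
    refine ⟨(sec (kernel π)).symm ((Sigma.ι (fun _ : Fin n => Coh.structureModule X) i ≫ a).app ⊤ (1 : Γ(X, ⊤))),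
      (sec M).injective ?_⟩
    rw [sec_natural (k := k), AddEquiv.apply_symm_apply]
    show ((Sigma.ι (fun _ : Fin n => Coh.structureModule X) i ≫ a) ≫ kernel.ι π).app ⊤ (1 : Γ(X, ⊤)) = _
    rw [Category.assoc, kernel.lift_ι, Sigma.ι_desc]
    exact (H11Tilde.homOfGlobal_app M _ ⊤ _).trans ((one_smul _ _).trans
      (ConcreteCategory.congr_hom (M.presheaf.map_id (op ⊤)) _))
  have hK1 : Subsingleton (Coh.HH X (kernel π) 1) := by
    obtain ⟨ι, π', htot⟩ := H29CurveVan.exists_decomposition_free (X := X) n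
    haveI := H29CurveVan.subsingleton_of_decomposition (k := k) ι π' htot hO
    exact (H29CurveVan.surjective_one_of_epi (k := k) hdim a).subsingleton
  have hzero : ∀ g : Γ(M, ⊤), π.app ⊤ g = 0 := fun g => by
    obtain ⟨v, hv⟩ := hsurj ((sec M).symm g)
    have h1 := congrArg (sec M) hv
    rw [sec_natural, AddEquiv.apply_symm_apply] at h1
    rw [← h1]
    exact congr($(congrArg (fun f => Scheme.Modules.Hom.app f ⊤) (kernel.condition π)) _)
  haveI : Subsingleton (Coh.HH X (cokernel φ) 0) := subsingleton_of_forall_eq 0 fun c => by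
    obtain ⟨v, rfl⟩ := H25Par.hhlin_surjective (k := k) hS hK1 c
    exact (sec (cokernel φ)).injective ((sec_natural _ _).trans ((hzero _).trans (map_zero _).symm))
  have hsupp : ∀ x ∈ CohB1.support (cokernel φ), IsClosed ({x} : Set X) := by
    intro x hx
    by_contra hn
    refine hx (subsingleton_of_forall_eq 0 fun v => ?_)
    have hs : Function.Surjective (stalkLin π x) := H06Mod.surjective_stalk_of_epi π x
    obtain ⟨w, rfl⟩ := hs v
    have hw : w ∈ Submodule.span (X.presheaf.stalk x)
        (Set.range fun g : Γ(M, ⊤) => M.presheaf.germ ⊤ x trivial g) := (h x hn).symm ▸ Submodule.mem_top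
    refine (Submodule.span_le.2 ?_ hw : w ∈ LinearMap.ker (stalkLin π x))
    rintro _ ⟨g, rfl⟩
    show stalkLin π x (M.presheaf.germ ⊤ x trivial g) = 0
    rw [stalkLin_germ]
    exact (congrArg _ (hzero g)).trans (map_zero _)
  have hfin := finite_of_forall_isClosed (H10Coh.isClosed_support _ hC.2) hsupp
  have hgerm := H25Par.germs_bijective (k := k) (cokernel φ) hfin hsupp (fun y hy => not_not.1 hy)
  refine H10Inj.GGOn.isGloballyGenerated_of_spansAt M fun x =>
    spansAt_of_surjective φ ?_ (surjective_stalk_of_notMem_support φ fun hx => hx ?_)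
  · rw [SpansAt, eq_top_iff, ← spansStalks_of_epi (𝟙 (FlatMod.freeMod X n)) x]
    refine Submodule.span_mono ?_
    rintro _ ⟨i, rfl⟩
    exact ⟨_, rfl⟩
  · refine subsingleton_of_forall_eq 0 fun c => ?_
    classical
    obtain ⟨w, hw'⟩ := hgerm.2 (Pi.single (M := fun y : CohB1.support (cokernel φ) =>
      H25Par.Stk k (cokernel φ) y.1) ⟨x, hx⟩ c)
    have h2 := congrFun hw' ⟨x, hx⟩
    rw [Pi.single_eq_same, Subsingleton.elim w 0, map_zero] at h2
    exact h2.symm

/-- A component of a closed subscheme is cut out by elements annihilated by something outside the ideal. -/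
theorem exists_notMem_annihilator [IsNoetherian X] {I : X.IdealSheafData} {x : X} (hgen : x ∈ genericPoints X)
    (hxI : x ∈ I.support) (q : ClSub.quotMod I ⟶ ClSub.quotMod (idl ⟨closure {x}, isClosed_closure⟩))
    (hq : ClSub.toSubscheme I ≫ q = ClSub.toSubscheme (idl ⟨closure {x}, isClosed_closure⟩)) :
    ∃ (U : X.affineOpens) (a : Γ(X, U.1)), a ∉ I.ideal U ∧ ∀ m : Γ(kernel q, U.1), a • m = 0 := by
  obtain ⟨U, hU, hxU, -⟩ := exists_isAffineOpen_mem_and_subset (U := (⊤ : X.Opens)) (x := x) trivial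
  let W : Closeds X := ⟨closure {x}, isClosed_closure⟩
  have hJ : (idl W).ideal ⟨U, hU⟩ = (hU.primeIdealOf ⟨x, hxU⟩).asIdeal := ideal_vanishingIdeal_closure hU hxU
  have hIJ : I ≤ idl W := Scheme.IdealSheafData.le_support_iff_le_vanishingIdeal.1
    (closure_minimal (Set.singleton_subset_iff.2 hxI) I.support.isClosed)
  haveI : IsNoetherianRing Γ(X, U) := IsLocallyNoetherian.component_noetherian ⟨U, hU⟩
  obtain ⟨a, ha, hap⟩ := exists_mul_mem_of_minimalPrime
    (mem_minimalPrimes_of_generic hU hxU hgen ((hIJ ⟨U, hU⟩).trans hJ.le))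
  refine ⟨⟨U, hU⟩, a, ha, fun m => ?_⟩
  haveI : (ClSub.quotMod I).IsQuasicoherent := (LeadDev.isCoh_push_structure I.subschemeι).1
  haveI : (Coh.structureModule X).IsQuasicoherent := (H10Coh.isCoh_structureModule' X).1
  haveI := H10Coh.epi_toSubscheme I
  obtain ⟨r, hr⟩ := H10Coh.surjective_app_of_epi (ClSub.toSubscheme I) hU ((kernel.ι q).app U m)
  have hr0 : (ClSub.toSubscheme (idl W)).app U r = 0 := by
    rw [← hq]
    show q.app U ((ClSub.toSubscheme I).app U r) = 0
    rw [hr]
    exact congr($(congrArg (fun f => Scheme.Modules.Hom.app f U) (kernel.condition q)) m)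
  have hrp : (show Γ(X, U) from r) ∈ (idl W).ideal ⟨U, hU⟩ := (H17.IdealPair.app_eq_zero_iff _ hU r).1 hr0
  refine H10Coh.injective_app_of_mono' (kernel.ι q) U ?_
  rw [Scheme.Modules.Hom.app_smul, map_zero, ← hr, ← Scheme.Modules.Hom.app_smul]
  exact (H17.IdealPair.app_eq_zero_iff I hU _).2 (hap _ (hJ.le hrp))

include k in
variable (k) in
/-- On a proper one-dimensional scheme with `H¹(O) = 0` over an algebraically closed field, an invertible module
with a nonzero section on every integral curve is globally generated on every closed subscheme. -/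
theorem isGloballyGenerated_quot_of_sections [IsAlgClosed k] (hdim : topologicalKrullDim X ≤ 1)
    (hO : Subsingleton (Coh.HH X (Coh.structureModule X) 1)) {L : X.Modules} (hL : PicF.IsInvertible L)
    (hsec : ∀ x : X, ¬ IsClosed ({x} : Set X) →
      ∃ w : Γ(res L (⟨closure {x}, isClosed_closure⟩ : Closeds X), ⊤), w ≠ 0) (I : X.IdealSheafData) :
    Curv2.IsGloballyGenerated (CohB1.tensorMod (ClSub.quotMod I) L) := by
  haveI := isNoetherian_of_proper (k := k) (X := X)
  by_contra hI
  obtain ⟨I, hbad, hmax⟩ := H25Chow.exists_maximal_ideal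
    {I : X.IdealSheafData | ¬ Curv2.IsGloballyGenerated (CohB1.tensorMod (ClSub.quotMod I) L)} ⟨I, hI⟩
  refine hbad (isGloballyGenerated_of_spansAt_nonclosed k hdim hO
    (H11Ample.isCoh_tensor (LeadDev.isCoh_push_structure I.subschemeι) hL) fun x hx => ?_)
  let M := CohB1.tensorMod (ClSub.quotMod I) L
  by_cases hxI : x ∈ I.support
  swap
  · haveI : Subsingleton (M.presheaf.stalk x) :=
      not_not.1 fun h => hxI ((mem_support_quot I).le (H25Euler.support_tensor_subset _ _ h))
    exact Subsingleton.elim _ _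
  have hgen := mem_genericPoints_of_not_isClosed hdim hx
  let W : Closeds X := ⟨closure {x}, isClosed_closure⟩
  haveI : IsIntegral (idl W).subscheme := H22Alg.isIntegral_vanishingIdeal_closure x
  have hIJ : I ≤ idl W := Scheme.IdealSheafData.le_support_iff_le_vanishingIdeal.1
    (closure_minimal (Set.singleton_subset_iff.2 hxI) I.support.isClosed)
  obtain ⟨q, hq, hqe⟩ := exists_quotMap hIJ
  haveI := hqe
  let A := kernel q
  have hQI : Coh.IsCoh (ClSub.quotMod I) := LeadDev.isCoh_push_structure I.subschemeι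
  have hA : Coh.IsCoh A := H10Coh.isCoh_kernel q hQI (LeadDev.isCoh_push_structure (idl W).subschemeι).1
  have hkI : ClSub.KilledByIdeal I A := H24GE.killedByIdeal_of_mono (kernel.ι q) (killed_quotMod I)
  let I' := H17.AnnSheaf.annData A hA.1 hA.2
  have hle : I ≤ I' := fun U a ha => Module.mem_annihilator.2 fun m => hkI U a ha m
  obtain ⟨U, a, ha, ha'⟩ := exists_notMem_annihilator hgen hxI q hq
  have hgg : Curv2.IsGloballyGenerated (CohB1.tensorMod (ClSub.quotMod I') L) := by
    by_contra h
    exact ha (by rw [hmax I' h hle]; exact Module.mem_annihilator.2 ha')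
  have hS := H10Coh.shortExact_kernel q
  have hA1 : Subsingleton (Coh.HH X A 1) := by
    refine subsingleton_one_of_surjective (k := k) hS (fun z => ?_) ?_
    · obtain ⟨v, hv⟩ := surjective_h0_toSubscheme k (idl W) z
      rw [← hq, H25Par.hhlin_comp] at hv
      exact ⟨_, hv⟩
    · haveI := H10Coh.epi_toSubscheme I
      haveI := hO
      exact (H29CurveVan.surjective_one_of_epi (k := k) hdim (ClSub.toSubscheme I)).subsingleton
  have hAL := subsingleton_h1_tensor_of_killed k hdim hL (H17.AnnSheaf.killedByIdeal_annData A hA.1 hA.2) hA1 hgg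
  let r : M ⟶ res L W := LimSh.tensorModMap q L
  obtain ⟨w, hw⟩ := hsec x hx
  obtain ⟨v, hv⟩ := H25Par.hhlin_surjective (k := k) (H10Coh.Tw.shortExact_seq hS hL) hAL ((sec (res L W)).symm w)
  let m : Γ(M, ⊤) := sec M v
  have hm : r.app ⊤ m = w := by
    have h1 := congrArg (sec (res L W)) hv
    rw [AddEquiv.apply_symm_apply] at h1
    exact (sec_natural (k := k) r v).symm.trans h1
  have hpure : IsPure W := closure_mono (Set.singleton_subset_iff.2 ⟨subset_closure rfl, hx⟩)
  have hwx : (res L W).presheaf.germ ⊤ x trivial w ≠ 0 := fun h0 => hw (by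
    refine res_section_eq_zero hL hpure w fun η _ hη => ?_
    by_cases hηW : η ∈ W
    · have h3 : x ⤳ η := specializes_iff_mem_closure.2 hηW
      obtain rfl := H8Props.mem_genericPoints_iff.1 (mem_genericPoints_of_not_isClosed hdim hη) x h3
      exact h0
    · haveI : Subsingleton ((res L W).presheaf.stalk η) :=
        not_nontrivial_iff_subsingleton.1 fun hn => hηW ((nontrivial_stalk_res_iff hL W η).1 hn)
      exact Subsingleton.elim _ _)
  let π : L ⟶ M := (H10Coh.Tw.leftUnitIso L).inv ≫ LimSh.tensorModMap (ClSub.toSubscheme I) L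
  haveI : Epi π := by
    haveI := H10Coh.epi_toSubscheme I
    haveI := H10Coh.Tw.epi_map (ClSub.toSubscheme I) hL
    exact epi_comp _ _
  have hπr : π ≫ r = proj L W := by
    rw [proj, Category.assoc, ← LimSh.tensorModMap_comp, hq]
  let b : M.presheaf.stalk x := M.presheaf.germ ⊤ x trivial m
  have hπs : Function.Surjective (stalkLin π x) := H06Mod.surjective_stalk_of_epi π x
  obtain ⟨α, hα⟩ := hπs b
  obtain ⟨V, e, hxV, he⟩ := H11Ample.exists_gen hL x
  obtain ⟨c, rfl⟩ := (he x hxV).2 α
  change stalkLin π x (c • L.presheaf.germ V x hxV e) = b at hα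
  rw [map_smul] at hα
  by_cases hc : IsUnit c
  · obtain ⟨u, rfl⟩ := hc
    rw [SpansAt, eq_top_iff]
    intro y _
    obtain ⟨β, rfl⟩ := hπs y
    obtain ⟨d, rfl⟩ := (he x hxV).2 β
    have hb : stalkLin π x (d • L.presheaf.germ V x hxV e) = (d * ↑u⁻¹) • b := by
      rw [map_smul, ← hα, smul_smul, mul_assoc, Units.inv_mul, mul_one]
    exact hb ▸ Submodule.smul_mem _ _ (Submodule.subset_span ⟨m, rfl⟩)
  · exfalso
    refine hwx ?_
    rw [← hm, ← stalkLin_germ r]
    show stalkLin r x b = 0
    rw [← hα, map_smul]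
    obtain ⟨O, hxO, c, rfl⟩ := X.presheaf.exists_germ_eq c
    obtain ⟨T, hT, hxT, hle'⟩ := exists_isAffineOpen_mem_and_subset (U := O) (x := x) hxO
    rw [← X.presheaf.germ_res_apply (homOfLE hle') x hxT] at hc ⊢
    refine smul_stalk_tensor_eq_zero (killed_quotMod (idl W)) L (U := ⟨T, hT⟩) ?_ hxT _
    rw [show (idl W).ideal ⟨T, hT⟩ = _ from ideal_vanishingIdeal_closure hT hxT]
    exact (H29Blow.mem_primeIdealOf_iff hT ⟨x, hxT⟩ _).2 hc

end Groth.Agent.H29Nef
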