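import Groth.Agent.H29CurveVan.GloballyGen
import Groth.Agent.H29CurveDual.Subcurve.Rank
import Groth.Agent.H23SB.TensorEnd
import Groth.Agent.H24GE.Mod

/-!
# Modules killed by an ideal and twists by invertible modules
-/

set_option autoImplicit false
set_option linter.style.haveILetI false
set_option linter.unusedSectionVars false

universe u

open CategoryTheory CategoryTheory.Limits AlgebraicGeometry TopologicalSpace Opposite
open scoped TensorProduct
open Groth.Agent.H29RR Groth.Agent.H06Mod

namespace Groth.Agent.H29Nef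

attribute [local instance 10000] H10Coh.hasSheafifyAb H10Coh.hasWeakSheafifyAb H10Coh.hasExtAb H10Coh.enoughInjAb

variable {X : Scheme.{u}} {I : X.IdealSheafData}

/-- The quotient by an ideal is killed by it. -/
theorem killed_quotMod (I : X.IdealSheafData) : ClSub.KilledByIdeal I (ClSub.quotMod I) := fun U a ha m => by
  rw [← I.ker_subschemeι_app U, RingHom.mem_ker] at ha
  let m' : Γ(Coh.structureModule I.subscheme, I.subschemeι ⁻¹ᵁ U.1) := m
  show (I.subschemeι.app U.1).hom a • m' = 0
  rw [ha]
  exact zero_smul _ m'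

/-- Elements of the ideal act by zero on the stalks of a killed module. -/
theorem smul_stalk_eq_zero {A : X.Modules} (hk : ClSub.KilledByIdeal I A) {U : X.affineOpens}
    {c : Γ(X, U.1)} (hc : c ∈ I.ideal U) {x : X} (hx : x ∈ U.1) (a : A.presheaf.stalk x) :
    X.presheaf.germ U.1 x hx c • a = 0 := by
  obtain ⟨O, hxO, a, rfl⟩ := A.presheaf.exists_germ_eq a
  obtain ⟨V, hV, hxV, hle⟩ := exists_isAffineOpen_mem_and_subset (U := O ⊓ U.1) (x := x) ⟨hxO, hx⟩
  have hVU : V ≤ U.1 := le_trans hle inf_le_right
  have hVO : V ≤ O := le_trans hle inf_le_left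
  rw [← A.presheaf.germ_res_apply (homOfLE hVO) x hxV, ← X.presheaf.germ_res_apply (homOfLE hVU) x hxV,
    ← H06Mod.germ_smul]
  have h := hk ⟨V, hV⟩ _ ((I.map_ideal (U := ⟨V, hV⟩) (V := U) hVU).le (Ideal.mem_map_of_mem _ hc))
    (A.presheaf.map (homOfLE hVO).op a)
  refine (congrArg (A.presheaf.germ V x hxV) ?_).trans (map_zero _)
  exact h

/-- The same for a tensor product with a killed factor. -/
theorem smul_stalk_tensor_eq_zero {A : X.Modules} (hk : ClSub.KilledByIdeal I A) (L : X.Modules)
    {U : X.affineOpens} {c : Γ(X, U.1)} (hc : c ∈ I.ideal U) {x : X} (hx : x ∈ U.1)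
    (v : (CohB1.tensorMod A L).presheaf.stalk x) : X.presheaf.germ U.1 x hx c • v = 0 := by
  obtain ⟨t, rfl⟩ := (H16Derived.KFlat.Stalk.toStalk_bijective A L x).2 v
  refine ((H16Derived.KFlat.Stalk.toStalk A L x).map_smul _ t).symm.trans ?_
  refine (congrArg _ ?_).trans (map_zero _)
  induction t using TensorProduct.induction_on with
  | zero => exact smul_zero _
  | tmul a b => rw [TensorProduct.smul_tmul', smul_stalk_eq_zero hk hc hx a, TensorProduct.zero_tmul]
  | add a b ha hb => rw [smul_add, ha, hb, add_zero]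

/-- The ideal acts as zero on a killed module. -/
theorem tensor_idealModι_eq_zero {A : X.Modules} (hk : ClSub.KilledByIdeal I A) :
    KoszTw.tensorMap (𝟙 A) (ClSub.idealModι I) = 0 := by
  refine H23SB.tensor_hom_ext fun x t => ?_
  refine (H16Derived.KFlat.Stalk.toStalk_naturality x (𝟙 A) (ClSub.idealModι I) t).trans ?_
  refine Eq.trans ?_ (H29CurveDual.Subcurve.stalkLin_zero_apply _ _).symm
  refine (congrArg _ ?_).trans (map_zero _)
  induction t using TensorProduct.induction_on with
  | zero => exact map_zero _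
  | add a b ha hb => rw [map_add, ha, hb, add_zero]
  | tmul a q =>
    rw [TensorProduct.map_tmul, H23KS.stalkLin_id]
    obtain ⟨O, hxO, q, rfl⟩ := (ClSub.idealMod I).presheaf.exists_germ_eq q
    obtain ⟨V, hV, hxV, hle⟩ := exists_isAffineOpen_mem_and_subset (U := O) (x := x) hxO
    rw [← (ClSub.idealMod I).presheaf.germ_res_apply (homOfLE hle) x hxV, stalkLin_germ]
    let q' := (ClSub.idealMod I).presheaf.map (homOfLE hle).op q
    let c : Γ(X, V) := (ClSub.idealModι I).app V q'
    have hc : c ∈ I.ideal ⟨V, hV⟩ := (H29Blow.mem_ideal_iff_exists_idealSect I hV c).2 ⟨q', rfl⟩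
    have h0 := smul_stalk_eq_zero hk (U := ⟨V, hV⟩) hc hxV a
    show a ⊗ₜ[X.presheaf.stalk x] (Coh.structureModule X).presheaf.germ V x hxV c = 0
    have h1 : (Coh.structureModule X).presheaf.germ V x hxV c =
        X.presheaf.germ V x hxV c • (Coh.structureModule X).presheaf.germ V x hxV (1 : Γ(X, V)) :=
      (congrArg _ (mul_one c).symm).trans (H06Mod.germ_smul (Coh.structureModule X) V hxV c (1 : Γ(X, V)))
    rw [h1, ← TensorProduct.smul_tmul, h0, TensorProduct.zero_tmul]

/-- A killed module is its own restriction. -/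
theorem isIso_resProj_of_killed {A : X.Modules} (hk : ClSub.KilledByIdeal I A) : IsIso (H25Par.resProj I A) := by
  obtain ⟨hc⟩ := H25Par.exists_cokernel_twistMap I A
  have h0 : ParSh.twistMap I A = 0 := by
    show KoszTw.tensorMap (𝟙 A) (ClSub.idealModι I) ≫ _ = 0
    rw [tensor_idealModι_eq_zero hk, zero_comp]
  exact CokernelCofork.IsColimit.isIso_π _ hc h0

variable {k : Type u} [Field k] [X.Over (Spec (CommRingCat.of k))] [IsProper (X ↘ Spec (CommRingCat.of k))]

include k in
variable (k) in
/-- An acyclic killed module stays acyclic after twisting when the twist on the closed subscheme is generated. -/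
theorem subsingleton_h1_tensor_of_killed (hdim : topologicalKrullDim X ≤ 1) {A L : X.Modules}
    (hL : PicF.IsInvertible L) (hk : ClSub.KilledByIdeal I A) (hA : Subsingleton (Coh.HH X A 1))
    (hgg : Curv2.IsGloballyGenerated (CohB1.tensorMod (ClSub.quotMod I) L)) :
    Subsingleton (Coh.HH X (CohB1.tensorMod A L) 1) := by
  haveI := isNoetherian_of_proper (k := k) (X := X)
  haveI := isIso_resProj_of_killed hk
  let M := CohB1.tensorMod (ClSub.quotMod I) L
  have hM : Coh.IsCoh M := H11Ample.isCoh_tensor (LeadDev.isCoh_push_structure I.subschemeι) hL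
  have h := H29CurveVan.subsingleton_h1_tensor k hdim A
    (H29RR.hhIso (k := k) (H10Coh.Tw.leftUnitIso A) 1).toEquiv.subsingleton hM hgg
  let e : CohB1.tensorMod A L ≅ CohB1.tensorMod M A :=
    PicGrp.tensorModIso (asIso (H25Par.resProj I A)) (Iso.refl L) ≪≫ H10Coh.Tw.assoc A (ClSub.quotMod I) L ≪≫
      H10Coh.Tw.commIso A M
  exact (H29RR.hhIso (k := k) e 1).toEquiv.subsingleton

end Groth.Agent.H29Nef
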