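import Groth.Agent.H29Nef.Relative
import Groth.Agent.H14VA.Regular
import Groth.Agent.H22Alg.CurveAmple
import Groth.Agent.H11Ample.RelAmple

/-!
# Ample modules are very ample for proper morphisms with fibres of dimension at most one and `H¹(O) = 0`
-/

set_option autoImplicit false
set_option linter.style.haveILetI false
set_option linter.unusedSectionVars false

universe u

open CategoryTheory CategoryTheory.Limits AlgebraicGeometry TopologicalSpace Opposite
open Groth.Agent Groth.Agent.H11Tilde Groth.Agent.H11Ample Groth.Agent.H22Alg.CMField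

namespace Groth.Agent.H29Nef

attribute [local instance 10000] H10Coh.hasSheafifyAb H10Coh.hasWeakSheafifyAb H10Coh.hasExtAb H10Coh.enoughInjAb

variable {X : Scheme.{u}} {A : Type u} [CommRing A] [IsNoetherianRing A] [X.Over (Spec (CommRingCat.of A))]
  [IsProper (X ↘ Spec (CommRingCat.of A))]

variable (A) in
/-- An ample module has nonnegative degrees on the curves in the fibres. -/
theorem deg_nonneg_of_ample {L : X.Modules} (hA : CohB1.IsAmple L) (K : Type u) [Field K] (i : A →+* K)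
    (J : X.IdealSheafData) (t : J.subscheme ⟶ Spec (CommRingCat.of K)) (_hJ : AlgebraicGeometry.IsIntegral J.subscheme)
    (hd : topologicalKrullDim ↥J.subscheme = 1)
    (ht : t ≫ Spec.map (CommRingCat.ofHom i) = J.subschemeι ≫ (X ↘ Spec (CommRingCat.of A))) :
    0 ≤ @Curv2.deg K _ J.subscheme ⟨t⟩ ((Scheme.Modules.pullback J.subschemeι).obj L) 1 := by
  letI : J.subscheme.Over (Spec (CommRingCat.of K)) := ⟨t⟩
  haveI : IsProper (J.subscheme ↘ Spec (CommRingCat.of K)) := by
    show IsProper t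
    haveI : IsProper (t ≫ Spec.map (CommRingCat.ofHom i)) := by rw [ht]; infer_instance
    exact IsProper.of_comp t (Spec.map (CommRingCat.ofHom i))
  exact (H22Alg.CurveAmple.deg_pos_of_ample (k := K) hd
    (H11Ample.isAmple_pullback_of_isAffineHom J.subschemeι hA)).le

variable (A) in
/-- Multiplication `H⁰(L^a) ⊗ H⁰(L) → H⁰(L^(a+1))` is surjective for `a ≥ 1`. -/
theorem spanned_of_gg (h1 : Subsingleton (Coh.HH X (Coh.structureModule X) 1))
    (hfib : ∀ y, topologicalKrullDim ↥((X ↘ Spec (CommRingCat.of A)).fiber y) ≤ 1)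
    {L : X.Modules} (hL : PicF.IsInvertible L) (hgg : Curv2.IsGloballyGenerated L) (a : ℕ) (ha : 1 ≤ a) :
    Spanned (CohB1.tensorPow L a) L := by
  haveI := isNoetherian_of_proper_affine A (X := X)
  obtain ⟨n, v, hs⟩ := H14VA.exists_setup hL hgg
  have hreg : Reg (H22Alg.PB.pw hL) (Coh.structureModule X) ((1 : ℕ) : ℤ) := by
    intro i hi
    rcases eq_or_lt_of_le hi with rfl | hi2
    · obtain ⟨e⟩ := H14VA.nonempty_pow_iso_pw hL 0
      exact H10Coh.Tw.subsingleton_of_iso ((H10Coh.Tw.leftUnitIso _).trans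
        (eqToIso (congrArg (H22Alg.PB.pw hL) (by simp)) ≪≫ e.symm)).symm (van_iff.2 h1)
    · haveI : Coh.IsQCoh (CohB1.tensorMod (Coh.structureModule X) (H22Alg.PB.pw hL (((1 : ℕ) : ℤ) - i))) :=
        (H11Ample.isCoh_tensor (H10Coh.isCoh_structureModule' X) (H22Alg.PB.isInvertible_pw hL _)).1
      exact van_iff.2 (H7Flat.CohDim.subsingleton_HH (X ↘ Spec (CommRingCat.of A)) 1
        (fun y => by exact_mod_cast hfib y) _ i hi2)
  obtain ⟨t, rfl⟩ := Nat.exists_eq_add_of_le ha
  have hreg' : Reg (H22Alg.PB.pw hL) (Coh.structureModule X) ((1 + t : ℕ) : ℤ) := by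
    simpa using reg_add hs hreg t
  obtain ⟨f⟩ := H14VA.nonempty_pow_iso_pw hL (1 + t)
  obtain ⟨f'⟩ := H14VA.nonempty_pow_iso_pw hL 1
  exact (((spanned_nat hs hreg' 1).of_iso_left (H10Coh.Tw.leftUnitIso _ ≪≫ f.symm)).of_iso_right
    f'.symm).of_iso_right (H10Coh.Tw.leftUnitIso L)

variable (A) in
/-- An ample invertible module is very ample. -/
theorem isRelVeryAmplePn_of_ample (h1 : Subsingleton (Coh.HH X (Coh.structureModule X) 1))
    (hfib : ∀ y, topologicalKrullDim ↥((X ↘ Spec (CommRingCat.of A)).fiber y) ≤ 1)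
    {L : X.Modules} (hA : CohB1.IsAmple L) :
    RelAmple.IsRelVeryAmplePn (X ↘ Spec (CommRingCat.of A)) L := by
  classical
  haveI := isNoetherian_of_proper_affine A (X := X)
  let q := X ↘ Spec (CommRingCat.of A)
  haveI : QuasiSeparatedSpace X := quasiSeparatedSpace_of_quasiSeparated q
  have hL := (isAmple_iff.1 hA).1
  have hgg := isGloballyGenerated_relNef A h1 hfib hL (deg_nonneg_of_ample A hA)
  haveI := H10Coh.finite_HH_proper A X L (H11Ample.isCoh_of_isInvertible hL) 0
  obtain ⟨n, β, hβ⟩ := Module.Finite.exists_fin (R := A) (M := Coh.HH X L 0)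
  let v : Fin (n + 1) → Γ(L, ⊤) := Fin.snoc (fun i => H29RR.sec L (β i)) 0
  let sc : A → Γ(X, ⊤) := fun c => Coh.toGlobal q c
  have hcomb : ∀ g : Γ(L, ⊤), g ∈ Submodule.span Γ(X, ⊤) (Set.range v) ∧ ∃ c : Fin n → A,
      g = ∑ i, sc (c i) • v i.castSucc := fun g => by
    obtain ⟨c, hc⟩ := (Submodule.mem_span_range_iff_exists_fun A).1
      (hβ.ge (Submodule.mem_top (x := (H29RR.sec L).symm g)))
    have hg : g = ∑ i, sc (c i) • v i.castSucc := by
      have h2 := congrArg (H29RR.sec L) hc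
      rw [map_sum, AddEquiv.apply_symm_apply] at h2
      refine h2.symm.trans (Finset.sum_congr rfl fun i _ => ?_)
      simp only [v, Fin.snoc_castSucc]
      exact H10Coh.HH0Equiv_smul L (sc (c i)) (β i)
    exact ⟨hg ▸ Submodule.sum_mem _ fun i _ => Submodule.smul_mem _ _ (Submodule.subset_span ⟨_, rfl⟩), c, hg⟩
  have hcov : ∀ x, ∃ l, x ∈ gen L (v l) := fun x => by
    obtain ⟨g, hg⟩ := exists_mem_gen_of_isGloballyGenerated hL hgg x
    by_contra hx
    push Not at hx
    obtain ⟨-, c, rfl⟩ := hcomb g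
    obtain ⟨V, e, hxV, he⟩ := exists_gen hL x
    choose d hd using fun l => exists_coeff he (L.presheaf.map (homOfLE (le_top : V ≤ ⊤)).op (v l))
    have hsum : L.presheaf.map (homOfLE (le_top : V ≤ ⊤)).op (∑ i, sc (c i) • v i.castSucc) =
        (∑ i, X.presheaf.map (homOfLE (le_top : V ≤ ⊤)).op (sc (c i)) * d i.castSucc) • e := by
      rw [map_sum, Finset.sum_smul]
      exact Finset.sum_congr rfl fun i _ => by rw [Scheme.Modules.map_smul, hd, mul_smul]
    have hu := (X.mem_basicOpen _ x hxV).1 ((gen_inf_eq_basicOpen he _ _ hsum).le ⟨hg, hxV⟩)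
    refine (IsLocalRing.mem_maximalIdeal _).1 ?_ hu
    rw [map_sum]
    refine Ideal.sum_mem _ fun i _ => ?_
    rw [map_mul]
    refine Ideal.mul_mem_left _ _ ((IsLocalRing.mem_maximalIdeal _).2 fun h => hx i.castSucc ?_)
    exact ((gen_inf_eq_basicOpen he _ _ (hd i.castSucc)).ge ((X.mem_basicOpen _ x hxV).2 h)).1
  refine isRelVeryAmplePn_of_sections q hL v Set.univ (fun x => (hcov x).imp fun _ h => ⟨trivial, h⟩)
    (fun j _ => H17.GenAffine.isAffineOpen_gen q hA (v j)) fun j _ => eq_top_iff.2 fun a _ => ?_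
  let G := gen L (v j)
  let u : Γ(L, G) := L.presheaf.map (homOfLE (le_top : G ≤ ⊤)).op (v j)
  have hu : IsGen L u := isGen_gen (v j)
  let R := Subring.closure (Set.range (q.appLE ⊤ G le_top) ∪
    {c | ∃ l, L.presheaf.map (homOfLE (le_top : G ≤ ⊤)).op (v l) = c • u})
  show a ∈ R
  have hsec : ∀ g : Γ(L, ⊤), ∃ d ∈ R, L.presheaf.map (homOfLE (le_top : G ≤ ⊤)).op g = d • u := by
    intro g
    obtain ⟨-, c, rfl⟩ := hcomb g
    choose d hd using fun l => exists_coeff hu (L.presheaf.map (homOfLE (le_top : G ≤ ⊤)).op (v l))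
    refine ⟨∑ i, X.presheaf.map (homOfLE (le_top : G ≤ ⊤)).op (sc (c i)) * d i.castSucc,
      Subring.sum_mem _ fun i _ => Subring.mul_mem _ (Subring.subset_closure (Or.inl ?_))
        (Subring.subset_closure (Or.inr ⟨i.castSucc, hd _⟩)), ?_⟩
    · exact ⟨(Scheme.ΓSpecIso (CommRingCat.of A)).inv (c i), rfl⟩
    · rw [map_sum, Finset.sum_smul]
      exact Finset.sum_congr rfl fun i _ => by rw [Scheme.Modules.map_smul, hd, mul_smul]
  have hpow : ∀ m : ℕ, 1 ≤ m → ∀ T : Γ(CohB1.tensorPow L m, ⊤),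
      ∃ d ∈ R, (CohB1.tensorPow L m).presheaf.map (homOfLE (le_top : G ≤ ⊤)).op T = d • spow u m := by
    intro m hm
    induction m, hm using Nat.le_induction with
    | base =>
      intro T
      obtain ⟨g, rfl⟩ := H14VA.spow_one_surjective hL T
      obtain ⟨d, hd, hgd⟩ := hsec g
      exact ⟨d, hd, by rw [spow_res, hgd, spow_smul, pow_one]⟩
    | succ m hm ih =>
      intro T
      have hT := spanned_of_gg A h1 hfib hL hgg m hm T
      induction hT using AddSubgroup.closure_induction with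
      | mem x hx =>
        obtain ⟨t, g, rfl⟩ := hx
        obtain ⟨d, hd, htd⟩ := ih t
        obtain ⟨d', hd', hgd⟩ := hsec g
        refine ⟨d * d', Subring.mul_mem _ hd hd', ?_⟩
        change (CohB1.tensorMod (CohB1.tensorPow L m) L).presheaf.map _ (tm t g) = (d * d') • tm (spow u m) u
        rw [tm_res, htd, hgd, tm_smul_left, tm_smul_right, smul_smul]
      | zero => exact ⟨0, Subring.zero_mem _, by rw [map_zero, zero_smul]⟩
      | add x y _ _ hx hy =>
        obtain ⟨d, hd, hxd⟩ := hx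
        obtain ⟨d', hd', hyd⟩ := hy
        exact ⟨d + d', Subring.add_mem _ hd hd', by erw [map_add, hxd, hyd]; rw [add_smul]⟩
      | neg x _ hx =>
        obtain ⟨d, hd, hxd⟩ := hx
        exact ⟨-d, Subring.neg_mem _ hd, by erw [map_neg, hxd]; rw [neg_smul]⟩
  have hGs : gen (CohB1.tensorPow L 1) (spow (v j) 1) = G := gen_spow hL (v j) 1 one_pos
  suffices h : ∀ (G' : X.Opens) (hG' : G' = G) (b : Γ(X, G')),
      X.presheaf.map (homOfLE hG'.ge).op b ∈ R by simpa using h G rfl a
  rintro G' hG' b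
  obtain rfl := hG'.trans hGs.symm
  let e := L.presheaf.map (homOfLE (le_top : gen (CohB1.tensorPow L 1) (spow (v j) 1) ≤ ⊤)).op (v j)
  have hee : L.presheaf.map (homOfLE hG'.le).op u = e := H10Coh.mres_mres L _ _ _
  have he : IsGen L e := hee ▸ hu.res hG'.le
  obtain ⟨N, hN⟩ := exists_extend_deg hL (k := 1) one_pos (spow (v j) 1) he
    (c := 1) (by rw [spow_res, one_smul]) b
  obtain ⟨T, -, hT⟩ := hN (N + 1) (Nat.le_succ N)
  obtain ⟨d, hd, hTd⟩ := hpow (N + 1) (Nat.le_add_left 1 N) T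
  have h1' := congrArg ((CohB1.tensorPow L (N + 1)).presheaf.map (homOfLE hG'.ge).op) hT
  rw [H10Coh.mres_mres, Scheme.Modules.map_smul, spow_res, one_pow, one_mul, H10Coh.mres_mres] at h1'
  have h2 : d = X.presheaf.map (homOfLE hG'.ge).op b :=
    ((isGen_spow hu (N + 1)).bijective le_rfl).1 (by
      beta_reduce; rw [H10Coh.mres_self]; exact hTd.symm.trans h1')
  exact h2 ▸ hd

end Groth.Agent.H29Nef
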