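import Groth.Agent.H29Nef.CurveField
import Groth.Agent.H7Flat.CohDim.H1Apps
import Groth.Agent.H19AbSch.EulerPull
import Groth.Agent.H24GE.Mod
import Mathlib.RingTheory.Finiteness.Nakayama

/-!
# Nef invertible modules for proper morphisms with fibres of dimension at most one and `H¹(O) = 0`

Over an affine Noetherian base: the statement on each closed fibre lifts, since the kernel of the restriction
to a closed fibre is a quotient of copies of the module and `H²` vanishes.
-/

set_option autoImplicit false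
set_option linter.style.haveILetI false
set_option linter.unusedSectionVars false
set_option backward.isDefEq.respectTransparency false

universe u

open CategoryTheory CategoryTheory.Limits AlgebraicGeometry TopologicalSpace Opposite Abelian
open Groth.Agent.H7Flat.CohDim Groth.Agent.H24GE Groth.Agent.H24Formal Groth.Agent.H24Formal.HomC

namespace Groth.Agent.H29Nef

attribute [local instance 10000] H10Coh.hasSheafifyAb H10Coh.hasWeakSheafifyAb H10Coh.hasExtAb H10Coh.enoughInjAb

variable {X : Scheme.{u}}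

/-- Sections of the image of a class of degree zero. -/
theorem sec_hm {M N : X.Modules} (φ : M ⟶ N) (v : Coh.HH X M 0) :
    H29RR.sec N (hm φ 0 v) = φ.app ⊤ (H29RR.sec M v) := by
  show H10Coh.H0Equiv _ _ (H10Coh.topEquiv _ 0 (hm φ 0 v)) = _
  refine Eq.trans (congrArg (H10Coh.H0Equiv _ _) (topEquiv_hm φ 0 v)) ?_
  exact (H10Coh.H0Equiv_map _ _).trans rfl

section Subscheme

variable [IsLocallyNoetherian X]

/-- Restricting the structure map to a closed subscheme killed by an ideal of the base. -/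
theorem exists_over_quotient {A : Type u} [CommRing A] [X.Over (Spec (CommRingCat.of A))] (m : Ideal A) :
    ∃ t : (idealOf X m).subscheme ⟶ Spec (CommRingCat.of (A ⧸ m)),
      t ≫ Spec.map (CommRingCat.ofHom (Ideal.Quotient.mk m)) =
        (idealOf X m).subschemeι ≫ (X ↘ Spec (CommRingCat.of A)) := by
  let I := idealOf X m
  let g := I.subschemeι ≫ (X ↘ Spec (CommRingCat.of A))
  let φ : A →+* Γ(I.subscheme, ⊤) := g.appTop.hom.comp (Scheme.ΓSpecIso (CommRingCat.of A)).inv.hom
  have hk : Formal.KilledBy m (ClSub.quotMod I) := by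
    have h := (killedByIdeal_iff (X := X) m 1 (ClSub.quotMod I)).1 (by rw [pow_one]; exact killed_quotMod I)
    rwa [pow_one] at h
  have hφ : ∀ a ∈ m, φ a = 0 := fun a ha => by
    have h := congr($(congrArg (fun e => Scheme.Modules.Hom.app e (⊤ : X.Opens)) (hk a ha))
      (show Γ(ClSub.quotMod I, ⊤) from (1 : Γ(I.subscheme, ⊤))))
    change (I.subschemeι.app ⊤) (scalA A ⊤ a) * (1 : Γ(I.subscheme, I.subschemeι ⁻¹ᵁ ⊤)) = 0 at h
    rw [mul_one] at h
    refine Eq.trans ?_ h
    show I.subschemeι.app ⊤ ((X ↘ Spec (CommRingCat.of A)).appTop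
      ((Scheme.ΓSpecIso (CommRingCat.of A)).inv a)) = _
    congr 1
    exact (H10Coh.mres_self (Coh.structureModule X) _ _).symm
  refine ⟨I.subscheme.toSpecΓ ≫ Spec.map (CommRingCat.ofHom (Ideal.Quotient.lift m φ hφ)), ?_⟩
  rw [Category.assoc, ← Spec.map_comp, ← CommRingCat.ofHom_comp, Ideal.Quotient.lift_comp_mk]
  show I.subscheme.toSpecΓ ≫ Spec.map ((Scheme.ΓSpecIso (CommRingCat.of A)).inv ≫ g.appTop) = g
  rw [Spec.map_comp, ← Scheme.toSpecΓ_naturality_assoc, toSpecΓ_SpecMap_ΓSpecIso_inv, Category.comp_id]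

/-- The closed subscheme of a maximal ideal lies in the fibre. -/
theorem base_eq_closedPoint {A : Type u} [CommRing A] [X.Over (Spec (CommRingCat.of A))] (m : Ideal A)
    [hm : m.IsMaximal] (z : (idealOf X m).subscheme) :
    (X ↘ Spec (CommRingCat.of A)) ((idealOf X m).subschemeι z) = (⟨m, hm.isPrime⟩ : PrimeSpectrum A) := by
  obtain ⟨t, ht⟩ := exists_over_quotient (X := X) m
  refine PrimeSpectrum.ext (hm.eq_of_le (((X ↘ Spec (CommRingCat.of A)) ((idealOf X m).subschemeι z) :
    PrimeSpectrum A).isPrime.ne_top) fun a ha => ?_).symm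
  rw [← Scheme.Hom.comp_apply, ← ht, Scheme.Hom.comp_apply]
  show Ideal.Quotient.mk m a ∈ (t z : PrimeSpectrum (A ⧸ m)).asIdeal
  rw [Ideal.Quotient.eq_zero_iff_mem.2 ha]
  exact zero_mem _

/-- The fibre bound passes to the closed subscheme of a maximal ideal. -/
theorem dim_subscheme_le {A : Type u} [CommRing A] [X.Over (Spec (CommRingCat.of A))] (m : Ideal A) [m.IsMaximal]
    {d : WithBot ℕ∞} (hd : ∀ y, topologicalKrullDim ↥((X ↘ Spec (CommRingCat.of A)).fiber y) ≤ d) :
    topologicalKrullDim (idealOf X m).subscheme ≤ d := by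
  let f := X ↘ Spec (CommRingCat.of A)
  let y : Spec (CommRingCat.of A) := (⟨m, ‹m.IsMaximal›.isPrime⟩ : PrimeSpectrum A)
  let j : (idealOf X m).subscheme → f ⁻¹' {y} :=
    Set.codRestrict (idealOf X m).subschemeι _ fun z => base_eq_closedPoint m z
  have hj : Topology.IsInducing j := ((idealOf X m).subschemeι.isEmbedding.isInducing.codRestrict _)
  exact ((hj.topologicalKrullDim_le).trans
    (f.fiberHomeo y).isHomeomorph.topologicalKrullDim_eq.ge).trans (hd y)

/-- A point over a maximal ideal lies in its closed subscheme. -/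
theorem mem_range_of_base_eq {A : Type u} [CommRing A] [X.Over (Spec (CommRingCat.of A))] (m : Ideal A)
    [hm : m.IsMaximal] {x : X} (hx : (X ↘ Spec (CommRingCat.of A)) x = (⟨m, hm.isPrime⟩ : PrimeSpectrum A)) :
    x ∈ Set.range (idealOf X m).subschemeι := by
  rw [Scheme.IdealSheafData.range_subschemeι]
  obtain ⟨V, hV, hxV, -⟩ := exists_isAffineOpen_mem_and_subset (U := (⊤ : X.Opens)) (x := x) trivial
  refine (Scheme.IdealSheafData.mem_support_iff_of_mem (U := ⟨V, hV⟩) hxV).2 ?_
  rw [ideal_idealOf, secIdeal, Ideal.map, Scheme.zeroLocus_span, Scheme.mem_zeroLocus_iff]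
  rintro _ ⟨a, ha, rfl⟩ hmem
  change x ∈ X.basicOpen (X.presheaf.map (homOfLE (le_top : V ≤ ⊤)).op
    ((X ↘ Spec (CommRingCat.of A)).appTop ((Scheme.ΓSpecIso (CommRingCat.of A)).inv a))) at hmem
  rw [Scheme.basicOpen_res] at hmem
  have h2 : x ∈ (X ↘ Spec (CommRingCat.of A)) ⁻¹ᵁ
      (Spec (CommRingCat.of A)).basicOpen ((Scheme.ΓSpecIso (CommRingCat.of A)).inv a) := by
    rw [Scheme.preimage_basicOpen]; exact hmem.2
  rw [basicOpen_eq_of_affine'] at h2
  have h3 : (X ↘ Spec (CommRingCat.of A)) x ∈ PrimeSpectrum.basicOpen a := by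
    simpa using h2
  rw [hx] at h3
  exact h3 ha

end Subscheme

variable {A : Type u} [CommRing A] [IsNoetherianRing A] [X.Over (Spec (CommRingCat.of A))]
  [IsProper (X ↘ Spec (CommRingCat.of A))]

variable (A) in
include A in
theorem isNoetherian_of_proper_affine : IsNoetherian X := by
  haveI : IsLocallyNoetherian X := LocallyOfFiniteType.isLocallyNoetherian (X ↘ Spec (CommRingCat.of A))
  haveI : CompactSpace X := QuasiCompact.compactSpace_of_compactSpace (X ↘ Spec (CommRingCat.of A))
  exact ⟨⟩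

variable (A) in
/-- Multiplication by the elements of an ideal generates the kernel of the restriction. -/
theorem exists_epi_kernel [IsLocallyNoetherian X] (m : Ideal A) (L : X.Modules) (hL : Coh.IsCoh L) :
    ∃ Φ : (∐ fun _ : m => L) ⟶ kernel (qmη (idealOf X m) L), Epi Φ ∧
      ∀ t : m, (Sigma.ι (fun _ : m => L) t ≫ Φ) ≫ kernel.ι (qmη (idealOf X m) L) = Formal.smulMod A L (t : A) := by
  let I := idealOf X m
  let v := qmη I L
  have hz : ∀ t : m, Formal.smulMod A L (t : A) ≫ v = 0 := fun t => by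
    refine Scheme.Modules.hom_ext _ _ fun V => ?_
    ext l
    refine H11Tilde.eq_of_locally _ _ fun x hx => ?_
    obtain ⟨W, hW, hxW, hWV⟩ := exists_isAffineOpen_mem_and_subset hx
    refine ⟨W, hWV, hxW, ?_⟩
    rw [← H11Tilde.app_map_apply, ← H11Tilde.app_map_apply, comp_app_apply, H24Formal.smulMod_app]
    exact (smul_app_of_killed (killed_qm I L) v hW (Submodule.smul_mem_smul
      (by rw [ideal_idealOf]; exact Ideal.mem_map_of_mem _ t.2) trivial)).trans rfl
  refine ⟨Sigma.desc fun t => kernel.lift v (Formal.smulMod A L (t : A)) (hz t), ?_, fun t => by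
    rw [Sigma.ι_desc, kernel.lift_ι]⟩
  haveI : L.IsQuasicoherent := hL.1
  haveI : ((qm I).obj L).IsQuasicoherent := isQCoh_qm I hL.1
  refine H10Coh.epi_of_surjective_on_cover _ (H10Coh.isQuasicoherent_kernel v) (fun V : X.affineOpens => V.1)
    (fun V => V.2) (fun x => by
      obtain ⟨V, hV, hxV, -⟩ := exists_isAffineOpen_mem_and_subset (x := x) (U := (⊤ : X.Opens)) trivial
      exact ⟨⟨V, hV⟩, hxV⟩) fun V => ?_
  let S : Set Γ(kernel v, V.1) := Set.range fun p : m × Γ(L, V.1) =>
    (kernel.lift v (Formal.smulMod A L (p.1 : A)) (hz p.1)).app V.1 p.2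
  refine ⟨S, ?_, ?_⟩
  · rw [eq_top_iff]
    intro z _
    have hι := H10Coh.injective_app_of_mono' (kernel.ι v) V.1
    suffices h : appL (kernel.ι v) V.1 z ∈ (Submodule.span Γ(X, V.1) S).map (appL (kernel.ι v) V.1) by
      obtain ⟨y, hy, he⟩ := h
      exact hι he ▸ hy
    have hmem : appL (kernel.ι v) V.1 z ∈ I.ideal V • (⊤ : Submodule Γ(X, V.1) Γ(L, V.1)) :=
      (qmη_eq_zero_iff I hL.1 V.2 _).1 (congr($(congrArg (fun e => Scheme.Modules.Hom.app e V.1) (kernel.condition v)) z))
    refine (Submodule.smul_le.2 ?_ : I.ideal V • (⊤ : Submodule Γ(X, V.1) Γ(L, V.1)) ≤ _) hmem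
    intro a ha l _
    rw [ideal_idealOf, secIdeal, Ideal.map] at ha
    induction ha using Submodule.span_induction with
    | mem b hb =>
      obtain ⟨c, hc, rfl⟩ := hb
      refine ⟨_, Submodule.subset_span ⟨(⟨c, hc⟩, l), rfl⟩, ?_⟩
      exact (app_congr (kernel.lift_ι v (Formal.smulMod A L c) (hz ⟨c, hc⟩)) V.1 l).trans rfl
    | zero => rw [zero_smul]; exact zero_mem _
    | add b c _ _ hb hc => rw [add_smul]; exact add_mem hb hc
    | smul r b _ hb => rw [smul_eq_mul, mul_smul]; exact Submodule.smul_mem _ r hb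
  · rintro _ ⟨⟨t, l⟩, rfl⟩
    exact ⟨(Sigma.ι (fun _ : m => L) t).app V.1 l,
      app_congr (Sigma.ι_desc (fun t : m => kernel.lift v (Formal.smulMod A L (t : A)) (hz t)) t) V.1 l⟩

/-- The degrees on the closed subscheme of a maximal ideal are those on `X`. -/
theorem deg_nonneg_subscheme {L : X.Modules} (hL : PicF.IsInvertible L)
    (hnef : ∀ (K : Type u) [Field K] (i : A →+* K) (J : X.IdealSheafData)
      (t : J.subscheme ⟶ Spec (CommRingCat.of K)),
      AlgebraicGeometry.IsIntegral J.subscheme → topologicalKrullDim ↥J.subscheme = 1 →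
      t ≫ Spec.map (CommRingCat.ofHom i) = J.subschemeι ≫ (X ↘ Spec (CommRingCat.of A)) →
      0 ≤ @Curv2.deg K _ J.subscheme ⟨t⟩ ((Scheme.Modules.pullback J.subschemeι).obj L) 1)
    {K : Type u} [Field K] (i : A →+* K) {Z : Scheme.{u}} [Z.Over (Spec (CommRingCat.of K))] (ι : Z ⟶ X)
    [IsClosedImmersion ι]
    (hι : (Z ↘ Spec (CommRingCat.of K)) ≫ Spec.map (CommRingCat.ofHom i) = ι ≫ (X ↘ Spec (CommRingCat.of A)))
    (J' : Z.IdealSheafData) [IsIntegral J'.subscheme] (hJ' : topologicalKrullDim J'.subscheme = 1) :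
    0 ≤ @Curv2.deg K _ J'.subscheme ⟨J'.subschemeι ≫ (Z ↘ (Spec (CommRingCat.of K)))⟩
      ((Scheme.Modules.pullback J'.subschemeι).obj ((Scheme.Modules.pullback ι).obj L)) 1 := by
  letI : J'.subscheme.Over (Spec (CommRingCat.of K)) := ⟨J'.subschemeι ≫ (Z ↘ (Spec (CommRingCat.of K)))⟩
  let J := (J'.subschemeι ≫ ι).ker
  let e : J'.subscheme ≅ J.subscheme := asIso (J'.subschemeι ≫ ι).toImage
  have he : e.hom ≫ J.subschemeι = J'.subschemeι ≫ ι := (J'.subschemeι ≫ ι).toImage_imageι
  letI : J.subscheme.Over (Spec (CommRingCat.of K)) :=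
    ⟨e.inv ≫ J'.subschemeι ≫ (Z ↘ (Spec (CommRingCat.of K)))⟩
  haveI : IsIntegral J.subscheme := by
    haveI : Nonempty J.subscheme := ⟨e.hom (genericPoint J'.subscheme)⟩
    exact isIntegral_of_isOpenImmersion e.inv
  have hd : topologicalKrullDim J.subscheme = 1 :=
    hJ' ▸ (e.hom.homeomorph.isHomeomorph.topologicalKrullDim_eq).symm
  have h := hnef K i J (e.inv ≫ J'.subschemeι ≫ (Z ↘ (Spec (CommRingCat.of K)))) inferInstance hd (by
    rw [Category.assoc, Category.assoc, hι, ← reassoc_of% he, e.inv_hom_id_assoc])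
  refine h.trans_eq ?_
  haveI : (Coh.structureModule J.subscheme).IsQuasicoherent := H10Coh.isQuasicoherent_unit
  haveI : ((Scheme.Modules.pullback J.subschemeι).obj L).IsQuasicoherent :=
    H28Mero.isQCoh_of_isInvertible (H11Ample.isInvertible_pullback _ hL)
  have hcomp : e.hom ≫ (J.subscheme ↘ Spec (CommRingCat.of K)) = J'.subscheme ↘ Spec (CommRingCat.of K) :=
    e.hom_inv_id_assoc _
  let e' : (Scheme.Modules.pullback e.hom).obj ((Scheme.Modules.pullback J.subschemeι).obj L) ≅
      (Scheme.Modules.pullback J'.subschemeι).obj ((Scheme.Modules.pullback ι).obj L) :=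
    (Scheme.Modules.pullbackComp e.hom J.subschemeι).app L ≪≫
      (Scheme.Modules.pullbackCongr he).app L ≪≫ ((Scheme.Modules.pullbackComp J'.subschemeι ι).app L).symm
  show Curv2.deg K J.subscheme _ 1 = Curv2.deg K J'.subscheme _ 1
  rw [H29RR.deg_def, H29RR.deg_def, ← H19AbSch.EulerPull.euler_pullback_iso (k := K) e hcomp,
    ← H19AbSch.EulerPull.euler_pullback_iso (k := K) e hcomp (Coh.structureModule J.subscheme),
    H25Euler.euler_congr (H16Derived.KFlat.Stalk.structurePullbackIso e.hom),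
    H25Euler.euler_congr e']

variable (A) in
theorem subsingleton_h2 (hfib : ∀ y, topologicalKrullDim ↥((X ↘ Spec (CommRingCat.of A)).fiber y) ≤ 1)
    (M : X.Modules) (hM : Coh.IsQCoh M) : Subsingleton (Coh.HH X M 2) := by
  haveI := hM
  exact H7Flat.CohDim.subsingleton_HH (X ↘ Spec (CommRingCat.of A)) 1 (fun y => by exact_mod_cast hfib y) M 2
    one_lt_two

variable (A) in
/-- On the closed fibre of a maximal ideal a nef invertible module is generated and acyclic. -/
theorem fibre_properties (h1 : Subsingleton (Coh.HH X (Coh.structureModule X) 1))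
    (hfib : ∀ y, topologicalKrullDim ↥((X ↘ Spec (CommRingCat.of A)).fiber y) ≤ 1)
    {L : X.Modules} (hL : PicF.IsInvertible L)
    (hnef : ∀ (K : Type u) [Field K] (i : A →+* K) (J : X.IdealSheafData)
      (t : J.subscheme ⟶ Spec (CommRingCat.of K)),
      AlgebraicGeometry.IsIntegral J.subscheme → topologicalKrullDim ↥J.subscheme = 1 →
      t ≫ Spec.map (CommRingCat.ofHom i) = J.subschemeι ≫ (X ↘ Spec (CommRingCat.of A)) →
      0 ≤ @Curv2.deg K _ J.subscheme ⟨t⟩ ((Scheme.Modules.pullback J.subschemeι).obj L) 1)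
    (m : Ideal A) [m.IsMaximal] :
    Curv2.IsGloballyGenerated ((Scheme.Modules.pullback (idealOf X m).subschemeι).obj L) ∧
      Subsingleton (Coh.HH X ((qm (idealOf X m)).obj L) 1) := by
  haveI := isNoetherian_of_proper_affine A (X := X)
  let I := idealOf X m
  letI : Field (A ⧸ m) := Ideal.Quotient.field m
  obtain ⟨t, ht⟩ := exists_over_quotient (X := X) m
  letI : I.subscheme.Over (Spec (CommRingCat.of (A ⧸ m))) := ⟨t⟩
  haveI : IsProper (I.subscheme ↘ Spec (CommRingCat.of (A ⧸ m))) := by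
    show IsProper t
    haveI : IsProper (t ≫ Spec.map (CommRingCat.ofHom (Ideal.Quotient.mk m))) := by rw [ht]; infer_instance
    exact IsProper.of_comp t (Spec.map (CommRingCat.ofHom (Ideal.Quotient.mk m)))
  haveI : (Coh.structureModule X).IsQuasicoherent := H10Coh.isQuasicoherent_unit
  haveI : (Coh.structureModule I.subscheme).IsQuasicoherent := H10Coh.isQuasicoherent_unit
  haveI : (ClSub.quotMod I).IsQuasicoherent := H10Coh.isQuasicoherent_pushforward I.subschemeι _
  haveI := H10Coh.epi_toSubscheme I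
  haveI : Subsingleton (Coh.HH X (ClSub.quotMod I) 1) := (hm_surjective_of_epi (ClSub.toSubscheme I) 1
    (subsingleton_h2 A hfib _ (H10Coh.isQuasicoherent_kernel _))).subsingleton
  have hO : Subsingleton (Coh.HH I.subscheme (Coh.structureModule I.subscheme) 1) :=
    (lerayHH I.subschemeι (Coh.structureModule I.subscheme) 1).symm.toEquiv.subsingleton
  obtain ⟨hgg, h1'⟩ := globallyGenerated_and_h1 (A ⧸ m) (dim_subscheme_le m hfib) hO
    (H11Ample.isInvertible_pullback I.subschemeι hL) fun J _ hJ =>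
      deg_nonneg_subscheme hL hnef (Ideal.Quotient.mk m) I.subschemeι ht J hJ
  haveI : ((Scheme.Modules.pullback I.subschemeι).obj L).IsQuasicoherent :=
    H28Mero.isQCoh_of_isInvertible (H11Ample.isInvertible_pullback _ hL)
  exact ⟨hgg, (lerayHH I.subschemeι ((Scheme.Modules.pullback I.subschemeι).obj L) 1).toEquiv.subsingleton⟩

variable (A) in
/-- The first cohomology of a nef invertible module vanishes. -/
theorem subsingleton_h1_relNef (h1 : Subsingleton (Coh.HH X (Coh.structureModule X) 1))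
    (hfib : ∀ y, topologicalKrullDim ↥((X ↘ Spec (CommRingCat.of A)).fiber y) ≤ 1)
    {L : X.Modules} (hL : PicF.IsInvertible L)
    (hnef : ∀ (K : Type u) [Field K] (i : A →+* K) (J : X.IdealSheafData)
      (t : J.subscheme ⟶ Spec (CommRingCat.of K)),
      AlgebraicGeometry.IsIntegral J.subscheme → topologicalKrullDim ↥J.subscheme = 1 →
      t ≫ Spec.map (CommRingCat.ofHom i) = J.subschemeι ≫ (X ↘ Spec (CommRingCat.of A)) →
      0 ≤ @Curv2.deg K _ J.subscheme ⟨t⟩ ((Scheme.Modules.pullback J.subschemeι).obj L) 1) :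
    Subsingleton (Coh.HH X L 1) := by
  haveI := isNoetherian_of_proper_affine A (X := X)
  haveI : QuasiSeparatedSpace X := quasiSeparatedSpace_of_quasiSeparated (X ↘ Spec (CommRingCat.of A))
  have hLc := H11Ample.isCoh_of_isInvertible hL
  haveI : L.IsQuasicoherent := hLc.1
  haveI hfin : Module.Finite A (Coh.HH X L 1) := H10Coh.finite_HH_proper A X L hLc 1
  by_contra hne
  have hann : Module.annihilator A (Coh.HH X L 1) ≠ ⊤ := fun h => hne (subsingleton_of_forall_eq 0 fun x => by
    have h1 : (1 : A) ∈ Module.annihilator A (Coh.HH X L 1) := h ▸ Submodule.mem_top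
    simpa using Module.mem_annihilator.1 h1 x)
  obtain ⟨m, hmax, hle⟩ := Ideal.exists_le_maximal _ hann
  obtain ⟨-, hQ⟩ := fibre_properties A h1 hfib hL hnef m
  obtain ⟨Φ, hΦ, hfac⟩ := exists_epi_kernel A m L hLc
  haveI := hΦ
  let v := qmη (idealOf X m) L
  haveI : ((qm (idealOf X m)).obj L).IsQuasicoherent := isQCoh_qm _ hLc.1
  haveI : (kernel v).IsQuasicoherent := H10Coh.isQuasicoherent_kernel v
  haveI : (∐ fun _ : m => L).IsQuasicoherent := H10Coh.isQuasicoherent_coproduct _ fun _ => inferInstance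
  have hle' : (⊤ : Submodule A (Coh.HH X L 1)) ≤ m • ⊤ := by
    intro x _
    haveI := epi_qmη (idealOf X m) hLc.1
    obtain ⟨y, hy⟩ := Abelian.Ext.covariant_sequence_exact₂ _
      (H10Coh.shortExact_sh (H10Coh.shortExact_kernel v)) x (hQ.elim _ _)
    obtain ⟨s, z, rfl⟩ := exists_sum_of_epi Φ 1 (subsingleton_h2 A hfib _ (H10Coh.isQuasicoherent_kernel Φ)) y
    have hy' : hm (kernel.ι v) 1 (∑ i ∈ s, hm (Sigma.ι (fun _ : m => L) i ≫ Φ) 1 (z i)) = x := hy
    rw [← hy', map_sum]
    refine Submodule.sum_mem _ fun i _ => ?_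
    have h3 : hm (kernel.ι v) 1 (hm (Sigma.ι (fun _ : m => L) i ≫ Φ) 1 (z i)) = (i : A) • z i := by
      rw [← LeadFF.Hm_comp, hfac]
      rfl
    rw [h3]
    exact Submodule.smul_mem_smul i.2 trivial
  obtain ⟨r, hr, hrn⟩ := Submodule.exists_sub_one_mem_and_smul_eq_zero_of_fg_of_le_smul m ⊤ Module.Finite.fg_top hle'
  exact hmax.ne_top (Ideal.eq_top_of_isUnit_mem m (by
    have hr' : r ∈ m := hle (Module.mem_annihilator.2 fun n => hrn n trivial)
    simpa using m.sub_mem hr' hr) isUnit_one)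

variable (A) in
/-- A nef invertible module is globally generated. -/
theorem isGloballyGenerated_relNef (h1 : Subsingleton (Coh.HH X (Coh.structureModule X) 1))
    (hfib : ∀ y, topologicalKrullDim ↥((X ↘ Spec (CommRingCat.of A)).fiber y) ≤ 1)
    {L : X.Modules} (hL : PicF.IsInvertible L)
    (hnef : ∀ (K : Type u) [Field K] (i : A →+* K) (J : X.IdealSheafData)
      (t : J.subscheme ⟶ Spec (CommRingCat.of K)),
      AlgebraicGeometry.IsIntegral J.subscheme → topologicalKrullDim ↥J.subscheme = 1 →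
      t ≫ Spec.map (CommRingCat.ofHom i) = J.subschemeι ≫ (X ↘ Spec (CommRingCat.of A)) →
      0 ≤ @Curv2.deg K _ J.subscheme ⟨t⟩ ((Scheme.Modules.pullback J.subschemeι).obj L) 1) :
    Curv2.IsGloballyGenerated L := by
  haveI := isNoetherian_of_proper_affine A (X := X)
  haveI : QuasiSeparatedSpace X := quasiSeparatedSpace_of_quasiSeparated (X ↘ Spec (CommRingCat.of A))
  have hLc := H11Ample.isCoh_of_isInvertible hL
  haveI : L.IsQuasicoherent := hLc.1
  haveI hL1 := subsingleton_h1_relNef A h1 hfib hL hnef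
  refine H29RR.isGloballyGenerated_of_closedPoints hL fun x hx => ?_
  let f := X ↘ Spec (CommRingCat.of A)
  have hfx : IsClosed ({f x} : Set (Spec (CommRingCat.of A))) := by
    rw [← Set.image_singleton]; exact f.isClosedMap _ hx
  let m : Ideal A := (f x : PrimeSpectrum A).asIdeal
  haveI : m.IsMaximal := (PrimeSpectrum.isClosed_singleton_iff_isMaximal _).1 hfx
  obtain ⟨z, hz⟩ := mem_range_of_base_eq m (x := x) rfl
  obtain ⟨hgg, -⟩ := fibre_properties A h1 hfib hL hnef m
  obtain ⟨g, hg⟩ := H11Ample.exists_mem_gen_of_isGloballyGenerated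
    (H11Ample.isInvertible_pullback _ hL) hgg z
  let v := qmη (idealOf X m) L
  haveI := epi_qmη (idealOf X m) hLc.1
  haveI : ((qm (idealOf X m)).obj L).IsQuasicoherent := isQCoh_qm _ hLc.1
  haveI : (kernel v).IsQuasicoherent := H10Coh.isQuasicoherent_kernel v
  haveI : (∐ fun _ : m => L).IsQuasicoherent := H10Coh.isQuasicoherent_coproduct _ fun _ => inferInstance
  obtain ⟨Φ, hΦ, -⟩ := exists_epi_kernel A m L hLc
  haveI := hΦ
  have hK : Subsingleton (Coh.HH X (kernel v) (0 + 1)) := subsingleton_of_forall_eq 0 fun y => by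
    obtain ⟨s, w, rfl⟩ := exists_sum_of_epi Φ 1 (subsingleton_h2 A hfib _ (H10Coh.isQuasicoherent_kernel Φ)) y
    exact Finset.sum_eq_zero fun i _ => by rw [Subsingleton.elim (w i) 0, map_zero]
  let gQ : Γ((qm (idealOf X m)).obj L, ⊤) := g
  obtain ⟨w, hw⟩ := hm_surjective_of_epi v 0 hK ((H29RR.sec _).symm gQ)
  refine ⟨H29RR.sec L w, ?_⟩
  have h2 : H11Ample.pullTop (idealOf X m).subschemeι (H29RR.sec L w) = g := by
    show v.app ⊤ (H29RR.sec L w) = gQ
    rw [← sec_hm, hw, AddEquiv.apply_symm_apply]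
  rw [← h2, H8Props.ProjOpenAmple.gen_pullTop _ (fun y => H11Ample.exists_gen hL _)] at hg
  exact hz ▸ hg

end Groth.Agent.H29Nef
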